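import Mathlib
import Groth.Agent.Lib.Helper26.GabLocTransfinite
import Groth.Agent.Lib.Helper8.GrTrans1

/-!
# Helper23 — NoethObj.CoprodFactor: a morphism from a Noetherian object to a coproduct in a Grothendieck
abelian category factors through a finite subcoproduct; coproducts of injectives
-/

set_option autoImplicit false
set_option linter.style.haveILetI false
set_option linter.unusedSectionVars false
universe w v u
open CategoryTheory CategoryTheory.Limits

namespace Groth.Agent.Lib.Helper23.NoethObj

open Groth.Agent.Lib.Helper26.GabLocClosed Groth.Agent.Lib.Helper26.GabLocTransfinite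
open Groth.Agent.Lib.Helper8.GrTrans1

variable {C : Type u} [Category.{v} C] [Abelian C]

attribute [local instance] Abelian.hasFiniteBiproducts

section

variable {J : Type w} (I : J → C) {c : Cofan I} (hc : IsColimit c)

/-- the finite partial sum. -/
noncomputable abbrev finSum (T : Finset J) : C := ⨁ (fun j : T => I j.1)

/-- the map from a finite partial sum to the coproduct. -/
noncomputable def finDesc (c : Cofan I) (T : Finset J) : finSum I T ⟶ c.pt :=
  biproduct.desc (fun j => c.inj j.1)

open Classical in
/-- the retraction of the coproduct onto a finite partial sum. -/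
noncomputable def finRetr (T : Finset J) : c.pt ⟶ finSum I T :=
  Cofan.IsColimit.desc hc
    (fun j => if h : j ∈ T then biproduct.ι (fun j : T => I j.1) ⟨j, h⟩ else 0)

@[reassoc]
lemma ι_finDesc (T : Finset J) (j : T) :
    biproduct.ι (fun j : T => I j.1) j ≫ finDesc I c T = c.inj j.1 := by
  unfold finDesc
  rw [biproduct.ι_desc]

lemma finDesc_finRetr (T : Finset J) : finDesc I c T ≫ finRetr I hc T = 𝟙 _ := by
  apply biproduct.hom_ext'
  intro j
  rw [ι_finDesc_assoc, Category.comp_id]
  unfold finRetr
  rw [Cofan.IsColimit.fac, dif_pos j.2]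

include hc in
lemma mono_finDesc (T : Finset J) : Mono (finDesc I c T) := by
  haveI : IsSplitMono (finDesc I c T) := ⟨⟨finRetr I hc T, finDesc_finRetr I hc T⟩⟩
  infer_instance

/-- the inclusion between finite partial sums. -/
noncomputable def finIncl {T T' : Finset J} (h : T ≤ T') : finSum I T ⟶ finSum I T' :=
  biproduct.desc (fun j => biproduct.ι (fun j : T' => I j.1) ⟨j.1, h j.2⟩)

lemma finIncl_finDesc {T T' : Finset J} (h : T ≤ T') :
    finIncl I h ≫ finDesc I c T' = finDesc I c T := by
  apply biproduct.hom_ext'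
  intro j
  unfold finIncl
  rw [biproduct.ι_desc_assoc, ι_finDesc, ι_finDesc]

end

section

variable [IsGrothendieckAbelian.{w} C] {J : Type w} (I : J → C) {c : Cofan I} (hc : IsColimit c)

include hc in
/-- a morphism from a Noetherian object to a coproduct factors through a finite partial sum. -/
theorem exists_factor_finset {S : C} [IsNoetherianObject S] (φ : S ⟶ c.pt) :
    ∃ (T : Finset J) (g : S ⟶ finSum I T), g ≫ finDesc I c T = φ := by
  classical
  let X := c.pt
  haveI : ∀ T, Mono (finDesc I c T) := mono_finDesc I hc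
  let Ys : Finset J → Subobject X := fun T => Subobject.mk (finDesc I c T)
  have hmono : Monotone Ys := by
    intro T T' h
    exact Subobject.mk_le_mk_of_comm (finIncl I h) (finIncl_finDesc I h)
  let Yf : Finset J ⥤ Subobject X := hmono.functor
  have htop : (⨆ T, Yf.obj T) = ⊤ := by
    let Sx : Subobject X := ⨆ T, Yf.obj T
    have hle : ∀ j : J, Ys {j} ≤ Sx := fun j => le_iSup (fun T => Yf.obj T) {j}
    let a : ∀ j : J, I j ⟶ (Sx : C) := fun j =>
      biproduct.ι (fun j' : ({j} : Finset J) => I j'.1) ⟨j, Finset.mem_singleton_self j⟩ ≫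
        (Subobject.underlyingIso (finDesc I c {j})).inv ≫ Subobject.ofLE _ _ (hle j)
    have ha : ∀ j, a j ≫ Sx.arrow = c.inj j := by
      intro j
      dsimp only [a]
      rw [Category.assoc, Category.assoc, Subobject.ofLE_arrow, Subobject.underlyingIso_arrow]
      exact ι_finDesc I {j} ⟨j, Finset.mem_singleton_self j⟩
    have hu : Cofan.IsColimit.desc hc a ≫ Sx.arrow = 𝟙 X := by
      apply Cofan.IsColimit.hom_ext hc
      intro j
      rw [Cofan.IsColimit.fac_assoc, ha, Category.comp_id]
    have : IsIso Sx.arrow := by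
      have : IsSplitEpi Sx.arrow := ⟨⟨Cofan.IsColimit.desc hc a, hu⟩⟩
      exact isIso_of_mono_of_isSplitEpi _
    exact Subobject.eq_top_of_isIso_arrow Sx
  let Bs : Subobject X := imageSubobject φ
  have hBs : Bs = ⨆ T, (Bs ⊓ Yf.obj T) := eq_iSup_inf Yf htop Bs
  haveI : IsNoetherianObject (Bs : C) := isNoetherianObject_of_epi (factorThruImageSubobject φ)
  let Z : Finset J → Subobject (Bs : C) := fun T => (Subobject.pullback Bs.arrow).obj (Ys T)
  have hZmono : Monotone Z := fun T T' h => (Subobject.pullback Bs.arrow).monotone (hmono h)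
  obtain ⟨m, ⟨T₀, rfl⟩, hmax⟩ := wellFounded_gt.has_min (Set.range Z) ⟨Z ∅, ⟨∅, rfl⟩⟩
  have hZle : ∀ T, Z T ≤ Z T₀ := by
    intro T
    have h1 : Z T₀ ≤ Z (T ∪ T₀) := hZmono Finset.subset_union_right
    have h2 : Z T ≤ Z (T ∪ T₀) := hZmono Finset.subset_union_left
    have h3 : ¬ (Z T₀ < Z (T ∪ T₀)) := hmax _ ⟨_, rfl⟩
    rw [← eq_of_le_of_not_lt h1 h3] at h2
    exact h2
  have hinf : ∀ T, Bs ⊓ Ys T ≤ Ys T₀ := by
    intro T
    rw [Subobject.inf_eq_map_pullback]
    refine ((Subobject.map Bs.arrow).monotone (hZle T)).trans ?_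
    show (Subobject.map Bs.arrow).obj ((Subobject.pullback Bs.arrow).obj (Ys T₀)) ≤ _
    rw [← Subobject.inf_eq_map_pullback]
    exact inf_le_right
  have hle : Bs ≤ Ys T₀ := by
    rw [hBs]
    exact iSup_le hinf
  have hf : (Ys T₀).Factors φ := by
    apply Subobject.factors_of_le φ hle
    have := Subobject.factors_comp_arrow (factorThruImageSubobject φ)
    rwa [imageSubobject_arrow_comp] at this
  obtain ⟨g, hg⟩ := (Subobject.mk_factors_iff (finDesc I c T₀) φ).1 hf
  exact ⟨T₀, g, hg⟩

include hc in
/-- extension of morphisms into a coproduct of injectives from subobjects of a Noetherian object. -/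
theorem exists_extension_coprod (hI : ∀ j, Injective (I j)) {S F : C} [IsNoetherianObject F]
    (i : S ⟶ F) [Mono i] (φ : S ⟶ c.pt) : ∃ ψ : F ⟶ c.pt, i ≫ ψ = φ := by
  haveI : IsNoetherianObject S := isNoetherianObject_of_mono i
  obtain ⟨T, g, hg⟩ := exists_factor_finset I hc φ
  haveI : ∀ j : T, Injective (I j.1) := fun j => hI j.1
  haveI : Injective (finSum I T) := inferInstance
  refine ⟨Injective.factorThru g i ≫ finDesc I c T, ?_⟩
  rw [← Category.assoc, Injective.comp_factorThru, hg]

end

end Groth.Agent.Lib.Helper23.NoethObj
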