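import Groth.Agent.S11167

/-!
# Helper23 — NoethObj.ChainLift: increasing chains of ideal subsheaves on a locally Noetherian scheme

Let `G n ⟶ O_X` be an increasing chain of sub-`O_X`-modules of the structure sheaf of a locally Noetherian scheme
(arbitrary subsheaves, not necessarily quasi-coherent).  For a morphism `j : U ⟶ X` from a Noetherian scheme there
is an index `n₀` such that near every point of the image of `j` every local section of every `G m` is (as a
function) a local section of `G n₀`.  This is the chain version of helper29's `S11167.local_gen`/`closed_gen`.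
-/

set_option autoImplicit false
universe u
open CategoryTheory CategoryTheory.Limits AlgebraicGeometry TopologicalSpace Opposite

namespace Groth.Agent.Lib.Helper23.NoethObj

open Groth.Agent.Lib.Helper28.QCohLoc Groth.Agent.Lib.Helper29.QCohStalk Groth.Agent.Lib.Helper29.FreeIso
open Groth.Agent.S11167

variable {X : Scheme.{u}} (G : ℕ → X.Modules) (ι : ∀ n, G n ⟶ Coh.structureModule X)

/-- near `y`, every local section of every `G m` is, as a function, a local section of `G n₀`. -/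
def LiftAt (n₀ : ℕ) (y : X) : Prop :=
  ∀ (m : ℕ) (W : X.Opens) (_ : y ∈ W) (τ : Γ(G m, W)),
    ∃ (W' : X.Opens) (hW' : W' ≤ W) (_ : y ∈ W') (τ' : Γ(G n₀, W')),
      io (G n₀) (ι n₀) W' τ' = resO hW' (io (G m) (ι m) W τ)

/-- the chain is increasing. -/
def Increasing : Prop := ∀ ⦃n m : ℕ⦄, n ≤ m → ∃ s : G n ⟶ G m, s ≫ ι m = ι n

variable {G ι}

lemma io_comp {n m : ℕ} (s : G n ⟶ G m) (hs : s ≫ ι m = ι n) (W : X.Opens) (τ : Γ(G n, W)) :
    io (G m) (ι m) W (s.app W τ) = io (G n) (ι n) W τ := by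
  unfold io
  rw [← hs]
  rfl

lemma LiftAt.mono (hinc : Increasing G ι) {n₀ n₁ : ℕ} (h : n₀ ≤ n₁) {y : X} (hy : LiftAt G ι n₀ y) :
    LiftAt G ι n₁ y := by
  intro m W hyW τ
  obtain ⟨W', hW', hy', τ', hτ'⟩ := hy m W hyW τ
  obtain ⟨s, hs⟩ := hinc h
  exact ⟨W', hW', hy', s.app W' τ', (io_comp s hs W' τ').trans hτ'⟩

/-- the local statement: near a point `x`, along generizations-specializations of `x`. -/
theorem local_lift [IsLocallyNoetherian X] (hinc : Increasing G ι) (x : X) :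
    ∃ (N : X.Opens), x ∈ N ∧ ∃ n₀ : ℕ, ∀ y ∈ N, x ⤳ y → LiftAt G ι n₀ y := by
  obtain ⟨V, hV, hxV, -⟩ := (TopologicalSpace.Opens.isBasis_iff_nbhd.1 X.isBasis_affineOpens)
    (Opens.mem_top x)
  have hVa : IsAffineOpen V := hV
  haveI : IsNoetherianRing Γ(X, V) := IsLocallyNoetherian.component_noetherian ⟨V, hV⟩
  let I : Ideal Γ(X, V) :=
    { carrier := {a | ∃ (T : X.Opens) (hT : T ≤ V), x ∈ T ∧ ∃ (m : ℕ) (t : Γ(G m, T)),
        io (G m) (ι m) T t = resO hT a}
      add_mem' := by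
        rintro a b ⟨T₁, hT₁, hx₁, m₁, t₁, e₁⟩ ⟨T₂, hT₂, hx₂, m₂, t₂, e₂⟩
        obtain ⟨s₁, hs₁⟩ := hinc (le_max_left m₁ m₂)
        obtain ⟨s₂, hs₂⟩ := hinc (le_max_right m₁ m₂)
        refine ⟨T₁ ⊓ T₂, inf_le_left.trans hT₁, ⟨hx₁, hx₂⟩, max m₁ m₂,
          res (G _) inf_le_left (s₁.app T₁ t₁) + res (G _) inf_le_right (s₂.app T₂ t₂), ?_⟩
        rw [io_add, io_res, io_res, io_comp s₁ hs₁, io_comp s₂ hs₂, e₁, e₂, resO_resO, resO_resO]
        exact (map_add (X.presheaf.map (homOfLE _).op).hom a b).symm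
      zero_mem' := ⟨V, le_rfl, hxV, 0, 0, by
        rw [io_zero]; exact (map_zero (X.presheaf.map (homOfLE _).op).hom).symm⟩
      smul_mem' := by
        rintro c a ⟨T, hT, hx, m, t, e⟩
        refine ⟨T, hT, hx, m, resO hT c • t, ?_⟩
        rw [io_smul, e, smul_eq_mul]
        exact (map_mul (X.presheaf.map (homOfLE _).op).hom c a).symm }
  obtain ⟨k, a, ha⟩ := (Submodule.fg_iff_exists_fin_generating_family).1 (IsNoetherian.noetherian I)
  have haI : ∀ j, a j ∈ I := fun j => ha ▸ Submodule.subset_span ⟨j, rfl⟩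
  choose T hT hxT m t ht using haI
  let n₀ : ℕ := Finset.univ.sup m
  have hm : ∀ j, m j ≤ n₀ := fun j => Finset.le_sup (Finset.mem_univ j)
  choose σ hσ using fun j => hinc (hm j)
  let T₀ : X.Opens := V ⊓ ⨅ j, T j
  have hT₀ : ∀ j, T₀ ≤ T j := fun j => inf_le_right.trans (iInf_le T j)
  have hxT₀ : x ∈ T₀ := by
    refine ⟨hxV, ?_⟩
    rw [SetLike.mem_coe, ← SetLike.mem_coe, Opens.coe_iInf]
    exact Set.mem_iInter.2 hxT
  obtain ⟨f, hfT, hxf⟩ := hVa.exists_basicOpen_le (V := T₀) ⟨x, hxT₀⟩ hxV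
  have hNV : X.basicOpen f ≤ V := X.basicOpen_le f
  let s : Fin k → Γ(G n₀, X.basicOpen f) := fun j =>
    res (G n₀) (hfT.trans (hT₀ j)) ((σ j).app (T j) (t j))
  have hs : ∀ j, io (G n₀) (ι n₀) (X.basicOpen f) (s j) = resO hNV (a j) := fun j => by
    rw [io_res, io_comp (σ j) (hσ j), ht j, resO_resO]
  refine ⟨X.basicOpen f, hxf, n₀, ?_⟩
  intro y hyN hxy mm W hyW τ
  obtain ⟨g, hgW, hyg⟩ := hVa.exists_basicOpen_le (V := W ⊓ X.basicOpen f) ⟨y, ⟨hyW, hyN⟩⟩ (hNV hyN)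
  have hxg : x ∈ X.basicOpen g := hxy.mem_open (X.basicOpen g).isOpen hyg
  have hgV : X.basicOpen g ≤ V := X.basicOpen_le g
  have hgN : X.basicOpen g ≤ X.basicOpen f := hgW.trans inf_le_right
  let τ' : Γ(G mm, X.basicOpen g) := res (G mm) (hgW.trans inf_le_left) τ
  have := hVa.isLocalization_basicOpen g
  obtain ⟨n, b, hb⟩ := IsLocalization.Away.surj g (io (G mm) (ι mm) _ τ')
  have hb' : (io (G mm) (ι mm) _ τ' * (resO hgV g) ^ n : Γ(X, X.basicOpen g)) = resO hgV b := hb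
  have hbI : b ∈ I := ⟨X.basicOpen g, hgV, hxg, mm, (resO hgV g) ^ n • τ', by
    rw [io_smul, ← hb', mul_comm]⟩
  rw [← ha] at hbI
  obtain ⟨c, hc⟩ := (Submodule.mem_span_range_iff_exists_fun _).1 hbI
  have hu0 : IsUnit (resO hgV g) := IsLocalization.Away.algebraMap_isUnit g
  obtain ⟨u, hu⟩ := hu0.pow n
  refine ⟨X.basicOpen g, hgW.trans inf_le_left, hyg,
    ∑ j, ((↑u⁻¹ : Γ(X, X.basicOpen g)) * resO hgV (c j)) • res (G n₀) hgN (s j), ?_⟩
  rw [io_sum_smul]
  have h1 : ∀ j, io (G n₀) (ι n₀) (X.basicOpen g) (res (G n₀) hgN (s j)) = resO hgV (a j) := fun j => by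
    rw [io_res, hs j, resO_resO]
  have h2 : (∑ j, resO hgV (c j) * resO hgV (a j) : Γ(X, X.basicOpen g)) = resO hgV b := by
    rw [← hc]
    refine ((map_sum (X.presheaf.map (homOfLE hgV).op).hom _ _).trans ?_).symm
    refine Finset.sum_congr rfl fun j _ => ?_
    rw [smul_eq_mul]
    exact map_mul (X.presheaf.map (homOfLE hgV).op).hom _ _
  calc (∑ j, ((↑u⁻¹ : Γ(X, X.basicOpen g)) * resO hgV (c j)) *
        io (G n₀) (ι n₀) (X.basicOpen g) (res (G n₀) hgN (s j)))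
      = (↑u⁻¹ : Γ(X, X.basicOpen g)) * ∑ j, resO hgV (c j) * resO hgV (a j) := by
        rw [Finset.mul_sum]
        refine Finset.sum_congr rfl fun j _ => ?_
        rw [h1 j, mul_assoc]
    _ = (↑u⁻¹ : Γ(X, X.basicOpen g)) * (io (G mm) (ι mm) _ τ' * (resO hgV g) ^ n) := by
        rw [h2, hb']
    _ = io (G mm) (ι mm) _ τ' := by
        rw [← hu, mul_comm (io (G mm) (ι mm) _ τ'), ← mul_assoc, Units.inv_mul, one_mul]
    _ = _ := io_res (G mm) (ι mm) (hgW.trans inf_le_left) τ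

/-- Noetherian induction along a morphism from a Noetherian scheme. -/
theorem closed_lift [IsLocallyNoetherian X] (hinc : Increasing G ι) {U : Scheme.{u}}
    [IsNoetherian U] (j : U ⟶ X) (Z : Closeds U) :
    ∃ n₀ : ℕ, ∀ u ∈ Z, LiftAt G ι n₀ (j u) := by
  apply wellFounded_lt.induction Z; clear Z
  intro Z H
  rcases eq_or_ne Z ⊥ with rfl | h₀
  · exact ⟨0, fun y hy => absurd hy (Set.notMem_empty y)⟩
  · by_cases h₁ : IsPreirreducible (Z : Set U)
    · have hirr : IsIrreducible (Z : Set U) := ⟨Closeds.coe_nonempty.2 h₀, h₁⟩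
      obtain ⟨x, hx⟩ := QuasiSober.sober hirr Z.isClosed
      obtain ⟨N, hxN, n₁, hlift₁⟩ := local_lift hinc (j x)
      have hxZ : x ∈ Z := hx.mem
      let Z' : Closeds U := Z ⊓ ⟨((j ⁻¹ᵁ N : U.Opens) : Set U)ᶜ, (j ⁻¹ᵁ N).isOpen.isClosed_compl⟩
      have hlt : Z' < Z := by
        refine lt_of_le_of_ne inf_le_left fun h => ?_
        have : x ∈ Z' := h ▸ hxZ
        exact this.2 hxN
      obtain ⟨n₂, hlift₂⟩ := H Z' hlt
      refine ⟨max n₁ n₂, fun y hy => ?_⟩
      by_cases hyN : j y ∈ N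
      · refine (hlift₁ (j y) hyN ?_).mono hinc (le_max_left _ _)
        have : y ∈ closure ({x} : Set U) := by rw [hx.def]; exact hy
        exact (specializes_iff_mem_closure.2 this).map j.continuous
      · exact (hlift₂ y ⟨hy, hyN⟩).mono hinc (le_max_right _ _)
    · simp only [isPreirreducible_iff_isClosed_union_isClosed, not_forall, not_or] at h₁
      obtain ⟨z₁, z₂, hz₁, hz₂, h, hz₁', hz₂'⟩ := h₁
      lift z₁ to Closeds U using hz₁
      lift z₂ to Closeds U using hz₂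
      obtain ⟨n₁, hlift₁⟩ := H (Z ⊓ z₁) (inf_lt_left.2 hz₁')
      obtain ⟨n₂, hlift₂⟩ := H (Z ⊓ z₂) (inf_lt_left.2 hz₂')
      refine ⟨max n₁ n₂, fun y hy => ?_⟩
      rcases h hy with hy₁ | hy₂
      · exact (hlift₁ y ⟨hy, hy₁⟩).mono hinc (le_max_left _ _)
      · exact (hlift₂ y ⟨hy, hy₂⟩).mono hinc (le_max_right _ _)

end Groth.Agent.Lib.Helper23.NoethObj
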