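import Groth.Agent.Lib.Helper23.NoethObj.Stabilize
import Groth.Agent.Lib.Helper23.CIProj.FreeStalk
import Groth.Agent.Lib.Helper16.StalkTor1

/-!
# Helper23 — NoethObj.FreeNoeth: `j_! O_V` is a Noetherian object for `V` a Noetherian open of a locally
Noetherian scheme
-/

set_option autoImplicit false
set_option linter.style.haveILetI false
universe u
open CategoryTheory CategoryTheory.Limits AlgebraicGeometry TopologicalSpace Opposite

namespace Groth.Agent.Lib.Helper23.NoethObj

open Groth.Agent.Lib.Helper16.Stk Groth.Agent.Lib.Helper23.CIProj Groth.Agent.Lib.Helper1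
open Groth.Agent.Lib.Helper16.StalkTor

variable {X : Scheme.{u}} (V : X.Opens)

/-- the canonical map `j_! O_V ⟶ O_X`, sending the universal section to `1`. -/
noncomputable def nu : freeU V ⟶ Coh.structureModule X :=
  (ModSiteFree.homEquiv X.sheaf V (Coh.structureModule X)).symm
    (show (Coh.structureModule X).val.obj (op V) from (1 : Γ(X, V)))

lemma nu_gen : (tPMap (nu V)).app (op V) (genU V) =
    (show (tP (Coh.structureModule X)).obj (op V) from (1 : Γ(X, V))) := by
  have h := FreeOnMap.homEquiv_eq X.sheaf V (nu V)
  unfold nu at h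
  rw [Equiv.apply_symm_apply] at h
  exact h.symm

lemma gm_structure (y : X) (W : X.Opens) (hy : y ∈ W) (s : Γ(X, W)) :
    gm y (tP (Coh.structureModule X)) W hy
      (show (tP (Coh.structureModule X)).obj (op W) from s) = gF X y W hy s := rfl

lemma gF_one (y : X) (W : X.Opens) (hy : y ∈ W) : gF X y W hy 1 = one X y := by
  have h := smul_one X y W hy 1
  rw [map_one, one_smul] at h
  exact h.symm

instance mono_nu : Mono (nu V) := by
  apply mono_of_forall_stalk
  intro y
  by_cases hy : y ∈ V
  · rw [ModuleCat.mono_iff_injective]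
    rw [injective_iff_map_eq_zero]
    intro a ha
    obtain ⟨c, rfl⟩ := exists_smul_germU V y hy a
    rw [map_smul] at ha
    have h1 : ((stk y).map (nu V)).hom (germU V y hy) =
        (show St y (tP (Coh.structureModule X)) from one X y) := by
      refine (stMap_gm (tPMap (nu V)) V hy (genU V)).trans ?_
      refine (congrArg (gm y (tP (Coh.structureModule X)) V hy) (nu_gen V)).trans ?_
      exact (gm_structure y V hy 1).trans (gF_one y V hy)
    rw [h1] at ha
    have hc : c = 0 := by
      apply (bij X y).1
      rw [LinearMap.toSpanSingleton_apply, LinearMap.toSpanSingleton_apply, zero_smul]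
      exact ha
    rw [hc, zero_smul]
  · exact ⟨fun g h _ => (isZero_stk_freeU V y hy).eq_of_tgt g h⟩

/-- `j_! O_V` is a Noetherian object when `V` is a Noetherian open of a locally Noetherian scheme. -/
theorem isNoetherianObject_freeU [IsLocallyNoetherian X] [IsNoetherian V.toScheme] :
    IsNoetherianObject (freeU V) := by
  rw [isNoetherianObject_iff_monotone_chain_condition]
  intro c
  have hinc : Increasing (fun n => ((c n : Subobject (freeU V)) : X.Modules))
      (fun n => (c n).arrow ≫ nu V) := by
    intro n m hnm
    exact ⟨Subobject.ofLE _ _ (c.monotone hnm), by rw [← Category.assoc, Subobject.ofLE_arrow]⟩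
  haveI : ∀ n, Mono ((fun n => (c n).arrow ≫ nu V) n) := fun n => mono_comp _ _
  have hzero : ∀ (n : ℕ) (y : X), y ∉ Set.range V.ι →
      IsZero ((stk y).obj ((c n : Subobject (freeU V)) : X.Modules)) := by
    intro n y hy
    have hy' : y ∉ V := by
      intro h
      apply hy
      rw [Scheme.Opens.range_ι]
      exact h
    haveI : Mono ((stk y).map (c n).arrow) := inferInstance
    exact IsZero.of_mono ((stk y).map (c n).arrow) (isZero_stk_freeU V y hy')
  obtain ⟨n₀, h⟩ := exists_isIso_of_chain hinc V.ι hzero
  refine ⟨n₀, fun m hm => ?_⟩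
  have hs : Subobject.ofLE _ _ (c.monotone hm) ≫ (c m).arrow ≫ nu V = (c n₀).arrow ≫ nu V := by
    rw [← Category.assoc, Subobject.ofLE_arrow]
  haveI := h m (Subobject.ofLE _ _ (c.monotone hm)) hs
  apply le_antisymm (c.monotone hm)
  apply Subobject.le_of_comm (inv (Subobject.ofLE _ _ (c.monotone hm)))
  rw [IsIso.inv_comp_eq, Subobject.ofLE_arrow]

end Groth.Agent.Lib.Helper23.NoethObj
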