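import Groth.Agent.Lib.Helper23.NoethObj.CoprodFactor
import Groth.Agent.Lib.Helper23.NoethObj.FreeNoeth
import Groth.Agent.Lib.Helper26.BaerMod
import Groth.Agent.Lib.Helper26.MVMod4

/-!
# Helper23 — NoethObj.CoprodInj: on a locally Noetherian scheme, coproducts of injective `O_X`-modules
are injective
-/

set_option autoImplicit false
set_option linter.style.haveILetI false
universe u
open CategoryTheory CategoryTheory.Limits AlgebraicGeometry TopologicalSpace Opposite

namespace Groth.Agent.Lib.Helper23.NoethObj

open Groth.Agent.Lib.Helper23.CIProj Groth.Agent.Lib.Helper26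

variable {X : Scheme.{u}}

/-- an open of a locally Noetherian scheme contained in a Noetherian open is Noetherian. -/
theorem isNoetherian_of_le [IsLocallyNoetherian X] {W' W : X.Opens} (h : W' ≤ W)
    (hW : IsNoetherian W.toScheme) : IsNoetherian W'.toScheme := by
  haveI : IsLocallyNoetherian W'.toScheme := isLocallyNoetherian_of_isOpenImmersion W'.ι
  haveI : NoetherianSpace ((W : X.Opens) : Set X) := inferInstanceAs (NoetherianSpace W.toScheme)
  haveI : CompactSpace W'.toScheme := by
    show CompactSpace ((W' : X.Opens) : Set X)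
    rw [← isCompact_iff_compactSpace]
    exact (noetherianSpace_set_iff ((W : X.Opens) : Set X)).1 inferInstance _ h
  exact {}

/-- an affine open of a locally Noetherian scheme is Noetherian. -/
theorem isNoetherian_of_isAffineOpen [IsLocallyNoetherian X] {V : X.Opens} (hV : IsAffineOpen V) :
    IsNoetherian V.toScheme := by
  haveI : IsLocallyNoetherian V.toScheme := isLocallyNoetherian_of_isOpenImmersion V.ι
  haveI : IsAffine V.toScheme := hV
  exact {}

/-- **S11157**: on a locally Noetherian scheme coproducts of injectives are injective. -/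
theorem injective_coproduct [IsLocallyNoetherian X] {ι : Type u} (I : ι → X.Modules)
    (hI : ∀ j, Injective (I j)) {c : Cofan I} (hc : IsColimit c) : Injective c.pt := by
  let 𝓑 : Set X.Opens := {W | IsNoetherian W.toScheme}
  refine BaerMod.injective_of_baer (O := X.sheaf) (𝓑 := 𝓑) ?_ c.pt ?_
  · intro U
    refine ⟨⟨fun W _ => W ∈ 𝓑, ?_⟩, ?_, ?_⟩
    · intro Y Z f hY g
      exact isNoetherian_of_le (leOfHom g) hY
    · intro x hx
      obtain ⟨V, hV, hxV, hVU⟩ := Opens.isBasis_iff_nbhd.1 X.isBasis_affineOpens hx
      exact ⟨V, homOfLE hVU, isNoetherian_of_isAffineOpen hV, hxV⟩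
    · intro W a ha
      exact ha
  · intro V hV S i _ φ
    let V' : X.Opens := V
    haveI : IsNoetherian V'.toScheme := hV
    haveI : IsNoetherianObject (freeU V') := isNoetherianObject_freeU V'
    let S' : X.Modules := S
    let i' : S' ⟶ freeU V' := i
    haveI : Mono i' := ‹Mono i›
    let φ' : S' ⟶ c.pt := φ
    exact exists_extension_coprod I hc hI i' φ'

end Groth.Agent.Lib.Helper23.NoethObj
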