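import Groth.Agent.Lib.Helper23.NoethObj.FreeNoeth
import Groth.Agent.Lib.Helper23.ExtZ.Unit

/-!
# Helper23 — NoethObj.ExtZeroFree: `CxOX.extZeroUnit j ≅ freeU (j ''ᵁ ⊤)` for an open immersion `j`,
and Noetherianity of `j_! O_U`
-/

set_option autoImplicit false
set_option linter.style.haveILetI false
universe u
open CategoryTheory CategoryTheory.Limits AlgebraicGeometry TopologicalSpace Opposite

namespace Groth.Agent.Lib.Helper23.NoethObj

open Groth.Agent.Lib.Helper16.Stk Groth.Agent.Lib.Helper23.CIProj Groth.Agent.Lib.Helper1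
open Groth.Agent.Lib.Helper23.ExtZ

variable {U X : Scheme.{u}} (j : U ⟶ X) [IsOpenImmersion j]

/-- `j_! O_U` corepresents sections over the image of `j`. -/
noncomputable def extZeroUnitEquiv' (M : X.Modules) :
    (CxOX.extZeroUnit j ⟶ M) ≃ Γ(M, j ''ᵁ ⊤) :=
  ((CxOX.extZeroAdj j).homEquiv (Coh.structureModule U) M).trans
    (secEquiv ((Scheme.Modules.restrictFunctor j).obj M))

theorem extZeroUnitEquiv'_comp {M N : X.Modules} (a : CxOX.extZeroUnit j ⟶ M) (φ : M ⟶ N) :
    extZeroUnitEquiv' j N (a ≫ φ) = φ.app (j ''ᵁ ⊤) (extZeroUnitEquiv' j M a) := by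
  have h : (CxOX.extZeroAdj j).homEquiv (Coh.structureModule U) N (a ≫ φ) =
      (CxOX.extZeroAdj j).homEquiv (Coh.structureModule U) M a ≫
        (Scheme.Modules.restrictFunctor j).map φ :=
    Adjunction.homEquiv_naturality_right _ _ _
  have h2 : secEquiv ((Scheme.Modules.restrictFunctor j).obj N)
      ((CxOX.extZeroAdj j).homEquiv (Coh.structureModule U) N (a ≫ φ)) =
      ((Scheme.Modules.restrictFunctor j).map φ).app ⊤
        (secEquiv ((Scheme.Modules.restrictFunctor j).obj M)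
          ((CxOX.extZeroAdj j).homEquiv (Coh.structureModule U) M a)) := by
    rw [h, secEquiv_comp]
  exact h2

/-- sections-corepresentation of `freeU V`, typed with `Γ`. -/
noncomputable def freeUEquiv (V : X.Opens) (M : X.Modules) : (freeU V ⟶ M) ≃ Γ(M, V) :=
  ModSiteFree.homEquiv X.sheaf V M

theorem freeUEquiv_comp (V : X.Opens) {M N : X.Modules} (g : freeU V ⟶ M) (φ : M ⟶ N) :
    freeUEquiv V N (g ≫ φ) = φ.app V (freeUEquiv V M g) :=
  ModSiteFree.homEquiv_comp X.sheaf V g φ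

theorem nonempty_extZeroUnit_iso_freeU : Nonempty (CxOX.extZeroUnit j ≅ freeU (j ''ᵁ ⊤)) := by
  refine nonempty_iso_of_homEquiv
    (fun M => (extZeroUnitEquiv' j M).trans (freeUEquiv (j ''ᵁ ⊤) M).symm) ?_
  intro M N a φ
  show (freeUEquiv (j ''ᵁ ⊤) N).symm (extZeroUnitEquiv' j N (a ≫ φ)) =
    (freeUEquiv (j ''ᵁ ⊤) M).symm (extZeroUnitEquiv' j M a) ≫ φ
  apply (freeUEquiv (j ''ᵁ ⊤) N).injective
  rw [Equiv.apply_symm_apply, freeUEquiv_comp, Equiv.apply_symm_apply, extZeroUnitEquiv'_comp]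

/-- `j_! O_U` is a Noetherian object when `U` is Noetherian and `X` locally Noetherian. -/
theorem isNoetherianObject_extZeroUnit [IsLocallyNoetherian X] [IsNoetherian U] :
    IsNoetherianObject (CxOX.extZeroUnit j) := by
  obtain ⟨e⟩ := nonempty_extZeroUnit_iso_freeU j
  haveI : IsLocallyNoetherian (j ''ᵁ ⊤).toScheme :=
    isLocallyNoetherian_of_isOpenImmersion (j ''ᵁ ⊤).ι
  haveI : CompactSpace (j ''ᵁ ⊤).toScheme := by
    show CompactSpace ((j ''ᵁ ⊤ : X.Opens) : Set X)
    rw [← isCompact_iff_compactSpace]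
    have : ((j ''ᵁ ⊤ : X.Opens) : Set X) = j '' Set.univ := rfl
    rw [this]
    exact isCompact_univ.image j.continuous
  haveI : IsNoetherian (j ''ᵁ ⊤).toScheme := {}
  haveI := isNoetherianObject_freeU (j ''ᵁ ⊤)
  exact isNoetherianObject_of_mono e.hom

end Groth.Agent.Lib.Helper23.NoethObj
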