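import Groth.Agent.Lib.Helper23.NoethObj.ChainLift
import Groth.Agent.Lib.Helper23.CIProj.Lam
import Groth.Agent.Lib.Helper16.Stk7

/-!
# Helper23 — NoethObj.Stabilize: increasing chains of ideal subsheaves supported on a Noetherian piece stabilize
-/

set_option autoImplicit false
universe u
open CategoryTheory CategoryTheory.Limits AlgebraicGeometry TopologicalSpace Opposite

namespace Groth.Agent.Lib.Helper23.NoethObj

open Groth.Agent.Lib.Helper28.QCohLoc Groth.Agent.Lib.Helper29.QCohStalk Groth.Agent.Lib.Helper29.FreeIso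
open Groth.Agent.S11167 Groth.Agent.Lib.Helper16.Stk Groth.Agent.Lib.Helper23.CIProj

variable {X : Scheme.{u}} {G : ℕ → X.Modules} {ι : ∀ n, G n ⟶ Coh.structureModule X}

/-- an increasing chain of sub-`O_X`-modules of `O_X` whose stalks vanish outside the image of a Noetherian scheme
is stationary. -/
theorem exists_isIso_of_chain [IsLocallyNoetherian X] [∀ n, Mono (ι n)] (hinc : Increasing G ι)
    {U : Scheme.{u}} [IsNoetherian U] (j : U ⟶ X)
    (hzero : ∀ (n : ℕ) (y : X), y ∉ Set.range j → IsZero ((stk y).obj (G n))) :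
    ∃ n₀ : ℕ, ∀ (m : ℕ) (s : G n₀ ⟶ G m), s ≫ ι m = ι n₀ → IsIso s := by
  obtain ⟨n₀, hl⟩ := closed_lift hinc j ⊤
  refine ⟨n₀, fun m s hs => ?_⟩
  haveI : Mono s := mono_of_mono_fac hs
  haveI : Epi s := by
    apply epi_of_forall_stalk
    intro y
    by_cases hy : y ∈ Set.range j
    · obtain ⟨v, rfl⟩ := hy
      rw [ModuleCat.epi_iff_surjective]
      intro a
      obtain ⟨W, hW, τ, rfl⟩ := exists_gm (tP (G m)) a
      obtain ⟨W', hW', hy', τ', hτ'⟩ := hl v trivial m W hW (show Γ(G m, W) from τ)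
      have h1 : s.app W' τ' = res (G m) hW' (show Γ(G m, W) from τ) := by
        apply io_injective (G m) (ι m)
        exact (io_comp s hs W' τ').trans (hτ'.trans (io_res (G m) (ι m) hW' _).symm)
      let τ'' : (tP (G n₀)).obj (op W') := τ'
      refine ⟨gm (j v) (tP (G n₀)) W' hy' τ'', ?_⟩
      rw [stk_map_apply, stMap_gm]
      have h2 : (tPMap s).app (op W') τ'' = (tP (G m)).map (homOfLE hW').op τ := h1
      rw [h2]
      exact gm_res (tP (G m)) (homOfLE hW') hy' τ
    · exact ⟨fun g h _ => (hzero m y hy).eq_of_src g h⟩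
  exact isIso_of_mono_of_epi s

end Groth.Agent.Lib.Helper23.NoethObj
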